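import Mathlib
import Cfsg.Agent.Lib.SpCover.Central
import Cfsg.Agent.Lib.SchurTheory.Hopf

/-!
Central extensions by `ℓ`-groups: lifts of subgroups generated by `p`-elements for a prime `p ≠ ℓ`, and the
vanishing of the intersection of the kernel with the derived group.
-/

set_option autoImplicit false
set_option linter.unusedSectionVars false

namespace CfsgLib.StemEll

open scoped commutatorElement
open CfsgLib.SpCover (ker_comm eq_one_of_coprime pow_relIndex_mem commute_congr)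

universe u v w

/-- In every finite central extension by an `ℓ`-group the kernel meets the derived group trivially. -/
def Van (ℓ : ℕ) (G : Type u) [Group G] : Prop :=
  ∀ (Γ : Type u) [Group Γ] [Finite Γ] (σ : Γ →* G), Function.Surjective σ → σ.ker ≤ Subgroup.center Γ →
    IsPGroup ℓ σ.ker → ∀ z : Γ, σ z = 1 → z ∈ commutator Γ → z = 1

theorem Van.of_equiv {ℓ : ℕ} {G H : Type u} [Group G] [Group H] (e : G ≃* H) (h : Van ℓ G) : Van ℓ H := by
  intro Γ _ _ σ hs hc hK z hz hzc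
  have hker : (e.symm.toMonoidHom.comp σ).ker = σ.ker := Subgroup.ext fun x => by
    simp [MonoidHom.mem_ker]
  exact h Γ (e.symm.toMonoidHom.comp σ) (e.symm.surjective.comp hs) (hker ▸ hc) (hker.symm ▸ hK) z
    (by simp [hz]) hzc

theorem Van.of_comm {ℓ : ℕ} {G : Type u} [Group G] [IsCyclic G] : Van ℓ G := by
  intro Γ _ _ σ _ hc _ z _ hz
  obtain ⟨g, hg⟩ := IsCyclic.exists_generator (α := σ.range)
  have hcomm : ∀ a b : Γ, Commute a b := by
    obtain ⟨g', hg'⟩ := g.2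
    intro a b
    obtain ⟨i, hi⟩ := hg ⟨σ a, a, rfl⟩
    obtain ⟨j, hj⟩ := hg ⟨σ b, b, rfl⟩
    have hi' : σ (g' ^ i) = σ a := by rw [map_zpow, hg']; exact congrArg Subtype.val hi
    have hj' : σ (g' ^ j) = σ b := by rw [map_zpow, hg']; exact congrArg Subtype.val hj
    exact commute_congr hc hi' hj' (Commute.zpow_zpow_self g' i j)
  have : commutator Γ = ⊥ := by
    rw [commutator_def, Subgroup.commutator_eq_bot_iff_le_centralizer]
    intro a _ b _
    exact hcomm b a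
  rw [this] at hz
  exact Subgroup.mem_bot.mp hz

/-- The map from the presentation reaches the derived group of a central extension. -/
theorem exists_mult_preimage {G : Type u} [Group G] {Γ : Type v} [Group Γ] {σ : Γ →* G}
    (hs : Function.Surjective σ) (hc : σ.ker ≤ Subgroup.center Γ) {z : Γ} (hz : σ z = 1)
    (hzc : z ∈ commutator Γ) :
    ∃ (η : Schur.Ext (Schur.basePres G) →* Γ) (c : Schur.mult (Schur.basePres G)), η c.1 = z := by
  obtain ⟨η, hη⟩ := Schur.exists_lift (π := Schur.basePres G) hs hc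
  have hle : commutator Γ ≤ (commutator (Schur.Ext (Schur.basePres G))).map η := by
    rw [commutator_def, Subgroup.commutator_le]
    intro a _ b _
    obtain ⟨a', ha⟩ := Schur.proj_surjective (Schur.basePres_surjective G) (σ a)
    obtain ⟨b', hb⟩ := Schur.proj_surjective (Schur.basePres_surjective G) (σ b)
    refine ⟨⁅a', b'⁆, Subgroup.commutator_mem_commutator (Subgroup.mem_top _) (Subgroup.mem_top _), ?_⟩
    rw [map_commutatorElement]
    exact StSL.comm_congr hc (by rw [← MonoidHom.comp_apply, hη, ha]) (by rw [← MonoidHom.comp_apply, hη, hb])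
  obtain ⟨c, hc', hcz⟩ := hle hzc
  refine ⟨η, ⟨c, ?_, hc'⟩, hcz⟩
  show Schur.proj _ c = 1
  rw [← hη, MonoidHom.comp_apply, hcz, hz]

/-- A multiplier of exponent prime to `ℓ` gives the vanishing. -/
theorem van_of_mult {ℓ : ℕ} {G : Type u} [Group G] [Finite G] {n : ℕ} (hn : n.Coprime ℓ)
    {A : Type w} [CommGroup A] (hA : Cfsg.HasSchurMultiplier G A) (hexp : ∀ a : A, a ^ n = 1) : Van ℓ G := by
  intro Γ _ _ σ hs hc hK z hz hzc
  obtain ⟨η, c, rfl⟩ := exists_mult_preimage hs hc hz hzc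
  obtain ⟨e⟩ := Schur.mulEquiv_mult hA (Schur.basePres_surjective G)
  have h1 : c ^ n = 1 := by rw [← e.apply_symm_apply c, ← map_pow, hexp, map_one]
  obtain ⟨k, hk⟩ := hK ⟨η c.1, hz⟩
  exact eq_one_of_coprime (hn.pow_right k) (by rw [← map_pow, ← Subgroup.coe_pow, h1, Subgroup.coe_one, map_one])
    (congrArg Subtype.val hk)

theorem van_of_trivial {ℓ : ℕ} {G : Type u} [Group G] [Finite G] (h : Cfsg.HasCyclicSchurMultiplier G 1) :
    Van ℓ G :=
  van_of_mult (Nat.coprime_one_left ℓ) h fun a => by rw [pow_one]; exact Subsingleton.elim _ _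

/-- A subgroup is generated by its `p`-elements. -/
def PGen {G : Type u} [Group G] (p : ℕ) (H : Subgroup G) : Prop :=
  H ≤ Subgroup.closure {g | g ∈ H ∧ ∃ k, g ^ (p ^ k) = 1}

theorem PGen.of_gen {G : Type u} [Group G] {p : ℕ} (H : Subgroup G) {S : Set G} (hS : H ≤ Subgroup.closure S)
    (hmem : ∀ g ∈ S, g ∈ H ∧ ∃ k, g ^ (p ^ k) = 1) : PGen p H :=
  hS.trans (Subgroup.closure_mono hmem)

theorem PGen.map {G : Type u} {H : Type v} [Group G] [Group H] {p : ℕ} (φ : G →* H) {A : Subgroup G}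
    (h : PGen p A) : PGen p (A.map φ) := by
  refine (Subgroup.map_mono h).trans ?_
  rw [MonoidHom.map_closure]
  refine Subgroup.closure_mono ?_
  rintro _ ⟨g, ⟨hg, k, hk⟩, rfl⟩
  exact ⟨⟨g, hg, rfl⟩, k, by rw [← map_pow, hk, map_one]⟩

theorem PGen.sup {G : Type u} [Group G] {p : ℕ} {A B : Subgroup G} (hA : PGen p A) (hB : PGen p B) :
    PGen p (A ⊔ B) :=
  sup_le (hA.trans (Subgroup.closure_mono fun _ hg => ⟨(le_sup_left : A ≤ A ⊔ B) hg.1, hg.2⟩))
    (hB.trans (Subgroup.closure_mono fun _ hg => ⟨(le_sup_right : B ≤ A ⊔ B) hg.1, hg.2⟩))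

/-- The abelianisation of a group generated by elements of `p`-power order. -/
theorem abel_ppow {Γ : Type u} [Group Γ] {p : ℕ} (S : Set Γ) (h : ∀ s ∈ S, ∃ k, s ^ (p ^ k) = 1)
    (x : Subgroup.closure S) : ∃ k, (Abelianization.of x) ^ (p ^ k) = 1 := by
  let T : Subgroup (Abelianization (Subgroup.closure S)) :=
    { carrier := {a | ∃ k, a ^ (p ^ k) = 1}
      one_mem' := ⟨0, one_pow _⟩
      mul_mem' := by
        rintro a b ⟨i, hi⟩ ⟨j, hj⟩
        exact ⟨i + j, by rw [mul_pow, pow_add, pow_mul, hi, one_pow, one_mul, mul_comm, pow_mul, hj, one_pow]⟩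
      inv_mem' := by
        rintro a ⟨i, hi⟩
        exact ⟨i, by rw [inv_pow, hi, inv_one]⟩ }
  have hle : (⊤ : Subgroup (Subgroup.closure S)) ≤ T.comap Abelianization.of := by
    rw [← Subgroup.closure_closure_coe_preimage (k := S), Subgroup.closure_le]
    intro y hy
    obtain ⟨k, hk⟩ := h y.1 hy
    exact ⟨k, by rw [← map_pow, show y ^ p ^ k = 1 from Subtype.ext hk, map_one]⟩
  exact hle (Subgroup.mem_top x)

section Lift

variable {G : Type u} [Group G] {Γ : Type u} [Group Γ] [Finite Γ] {σ : Γ →* G}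

/-- The group generated by the lifts of `p`-power order of a subgroup. -/
def Lift (σ : Γ →* G) (p : ℕ) (H : Subgroup G) : Subgroup Γ :=
  Subgroup.closure {x | σ x ∈ H ∧ ∃ k, x ^ (p ^ k) = 1}

theorem Lift_mono {p : ℕ} {H H' : Subgroup G} (h : H ≤ H') : Lift σ p H ≤ Lift σ p H' :=
  Subgroup.closure_mono fun _ hx => ⟨h hx.1, hx.2⟩

theorem Lift_map {p : ℕ} {H : Subgroup G} {x : Γ} (hx : x ∈ Lift σ p H) : σ x ∈ H :=
  (Subgroup.closure_le (H.comap σ)).mpr (fun _ hy => hy.1) hx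

theorem Lift_conj {p : ℕ} {H : Subgroup G} {g : Γ} (hg : ∀ h ∈ H, σ g * h * (σ g)⁻¹ ∈ H) {x : Γ}
    (hx : x ∈ Lift σ p H) : g * x * g⁻¹ ∈ Lift σ p H := by
  refine (Subgroup.closure_le ((Lift σ p H).comap (MulAut.conj g).toMonoidHom)).mpr (fun y hy => ?_) hx
  obtain ⟨hy1, k, hk⟩ := hy
  refine Subgroup.subset_closure ⟨?_, k, ?_⟩
  · show σ (g * y * g⁻¹) ∈ H
    rw [map_mul, map_mul, map_inv]; exact hg _ hy1
  · show (g * y * g⁻¹) ^ p ^ k = 1
    rw [conj_pow, hk, mul_one, mul_inv_cancel]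

variable (hs : Function.Surjective σ) (hc : σ.ker ≤ Subgroup.center Γ) {ℓ : ℕ} (hK : IsPGroup ℓ σ.ker)
  {p : ℕ} (hp : p.Coprime ℓ)
include hs hc hK hp

theorem lift_unique {x y : Γ} (h : σ x = σ y) (hx : ∃ k, x ^ (p ^ k) = 1) (hy : ∃ k, y ^ (p ^ k) = 1) :
    x = y := by
  obtain ⟨i, hi⟩ := hx
  obtain ⟨j, hj⟩ := hy
  have hk : σ (x⁻¹ * y) = 1 := by rw [map_mul, map_inv, h, inv_mul_cancel]
  have hcm : Commute x (x⁻¹ * y) := ker_comm hc hk x
  obtain ⟨n, hn⟩ := hK ⟨x⁻¹ * y, hk⟩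
  have h1 : (x⁻¹ * y) ^ (p ^ (i + j)) = 1 := by
    have h2 := hcm.mul_pow (p ^ (i + j))
    rw [mul_inv_cancel_left, pow_add, pow_mul x, hi, one_pow, one_mul, mul_comm, pow_mul y, hj, one_pow] at h2
    rw [pow_add, mul_comm]; exact h2.symm
  exact inv_mul_eq_one.mp (eq_one_of_coprime (hp.pow (i + j) n) h1 (congrArg Subtype.val hn))

theorem exists_lift {g : G} (hg : ∃ k, g ^ (p ^ k) = 1) : ∃ x, σ x = g ∧ ∃ k, x ^ (p ^ k) = 1 := by
  obtain ⟨k, hk⟩ := hg
  obtain ⟨x, rfl⟩ := hs g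
  obtain ⟨n, hn⟩ := hK ⟨x ^ p ^ k, by rw [MonoidHom.mem_ker, map_pow]; exact hk⟩
  obtain ⟨t, ht1, ht2⟩ := Nat.chineseRemainder (hp.symm.pow n k) 0 1
  refine ⟨x ^ t, ?_, k, ?_⟩
  · rw [map_pow, pow_eq_pow_mod t hk, ht2, ← pow_eq_pow_mod 1 hk, pow_one]
  · obtain ⟨s, rfl⟩ := Nat.modEq_zero_iff_dvd.mp ht1
    rw [← pow_mul, mul_comm, pow_mul, pow_mul]
    show ((x ^ p ^ k) ^ ℓ ^ n) ^ s = 1
    rw [show (x ^ p ^ k) ^ ℓ ^ n = 1 from congrArg Subtype.val hn, one_pow]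

theorem Lift_surj {H : Subgroup G} (hH : PGen p H) {g : G} (hg : g ∈ H) : ∃ x ∈ Lift σ p H, σ x = g :=
  (Subgroup.closure_le ((Lift σ p H).map σ)).mpr (fun h hh => by
    obtain ⟨x, hx, k, hk⟩ := exists_lift hs hc hK hp hh.2
    exact ⟨x, Subgroup.subset_closure ⟨hx.symm ▸ hh.1, k, hk⟩, hx⟩) (hH hg)

/-- The lift meets the kernel trivially. -/
theorem Lift_inter {H : Subgroup G} (hV : Van ℓ H) {z : Γ} (hzL : z ∈ Lift σ p H) (hz : σ z = 1) : z = 1 := by
  set X := Lift σ p H with hX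
  obtain ⟨n, hn⟩ := hK ⟨z, hz⟩
  have hab : ∀ x : X, ∃ k, (Abelianization.of x) ^ (p ^ k) = 1 := abel_ppow _ fun _ hy => hy.2
  obtain ⟨k, hk⟩ := hab ⟨z, hzL⟩
  have h1 : (⟨z, hzL⟩ : X) ^ (p ^ k) ∈ commutator X := by
    rw [← Abelianization.ker_of, MonoidHom.mem_ker, map_pow]; exact hk
  have hord : (p ^ k).Coprime (orderOf (⟨z, hzL⟩ : X)) := by
    refine (hp.pow k n).coprime_dvd_right ?_
    rw [← Subgroup.orderOf_coe]
    exact orderOf_dvd_of_pow_eq_one (congrArg Subtype.val hn)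
  obtain ⟨t, ht⟩ := exists_pow_eq_self_of_coprime hord
  have h2 : (⟨z, hzL⟩ : X) ∈ commutator X := by rw [← ht]; exact Subgroup.pow_mem _ h1 t
  have h3 : z ∈ ⁅H.comap σ, H.comap σ⁆ := by
    have hXH : X ≤ H.comap σ := fun x hx => Lift_map hx
    refine Subgroup.commutator_mono hXH hXH ?_
    rw [← Subgroup.map_subtype_commutator]
    exact ⟨_, h2, rfl⟩
  rw [← Subgroup.map_subtype_commutator] at h3
  obtain ⟨w, hw, rfl⟩ := h3
  have hker : (σ.subgroupComap H).ker = σ.ker.subgroupOf (H.comap σ) := Subgroup.ext fun x => by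
    rw [MonoidHom.mem_ker, Subgroup.mem_subgroupOf, MonoidHom.mem_ker]; exact Subtype.ext_iff
  have := hV (H.comap σ) (σ.subgroupComap H)
    (fun h => by obtain ⟨x, hx⟩ := hs h.1; exact ⟨⟨x, by show σ x ∈ H; rw [hx]; exact h.2⟩, Subtype.ext hx⟩)
    (by
      rw [hker]
      intro x hx
      exact Subgroup.mem_center_iff.mpr fun y => Subtype.ext (Subgroup.mem_center_iff.mp (hc hx) y.1))
    (fun x => by
      obtain ⟨i, hi⟩ := hK ⟨x.1.1, Subgroup.mem_subgroupOf.mp (hker ▸ x.2)⟩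
      exact ⟨i, Subtype.ext (Subtype.ext (show x.1.1 ^ ℓ ^ i = 1 from congrArg Subtype.val hi))⟩)
    w (Subtype.ext hz) hw
  rw [this]; rfl

/-- Elements normalising a lifted subgroup commute with its elements as soon as their images do. -/
theorem commute_of_norm {H : Subgroup G} (hH : PGen p H) (hV : Van ℓ H) {a b : Γ} (ha : σ a ∈ H)
    (hb : ∀ h ∈ H, σ b * h * (σ b)⁻¹ ∈ H) (hab : Commute (σ a) (σ b)) : Commute a b := by
  obtain ⟨a', ha', he⟩ := Lift_surj hs hc hK hp hH ha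
  refine commute_congr hc he rfl ?_
  have hmem : b * a' * b⁻¹ * a'⁻¹ ∈ Lift σ p H := mul_mem (Lift_conj hb ha') (inv_mem ha')
  have h1 : σ (b * a' * b⁻¹ * a'⁻¹) = 1 := by
    rw [map_mul, map_mul, map_mul, map_inv, map_inv, he, ← hab.eq, mul_inv_cancel_right, mul_inv_cancel]
  have h2 := Lift_inter hs hc hK hp hV hmem h1
  rw [mul_inv_eq_one] at h2
  exact (mul_inv_eq_iff_eq_mul.mp h2).symm

/-- Lifts of `p`-power order of commuting elements commute. -/
theorem Lift_commute {H₁ H₂ : Subgroup G} (h : ∀ a ∈ H₁, ∀ b ∈ H₂, Commute a b) {x y : Γ}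
    (hx : x ∈ Lift σ p H₁) (hy : y ∈ Lift σ p H₂) : Commute x y := by
  have key : ∀ x y : Γ, (σ x ∈ H₁ ∧ ∃ k, x ^ (p ^ k) = 1) → (σ y ∈ H₂ ∧ ∃ k, y ^ (p ^ k) = 1) → Commute x y := by
    rintro x y ⟨hx, hxk⟩ ⟨hy, k, hk⟩
    have := lift_unique hs hc hK hp (x := x * y * x⁻¹) (y := y)
      (by rw [map_mul, map_mul, map_inv, (h _ hx _ hy).eq, mul_inv_cancel_right])
      ⟨k, by rw [conj_pow, hk, mul_one, mul_inv_cancel]⟩ ⟨k, hk⟩
    exact mul_inv_eq_iff_eq_mul.mp this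
  have h1 : Lift σ p H₂ ≤ Subgroup.centralizer (Lift σ p H₁ : Set Γ) := by
    rw [Lift, Lift, Subgroup.centralizer_closure, Subgroup.closure_le]
    exact fun y hy => Subgroup.mem_centralizer_iff.mpr fun x hx => (key x y hx hy).eq
  exact Subgroup.mem_centralizer_iff.mp (h1 hy) x hx

/-- Preimages of central elements of a group generated by `p`-elements are central. -/
theorem central_of_PGen (hG : PGen p (⊤ : Subgroup G)) {a : Γ} (ha : ∀ g : G, Commute (σ a) g) (b : Γ) :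
    Commute a b := by
  obtain ⟨b', hb', he⟩ := Lift_surj hs hc hK hp hG (Subgroup.mem_top (σ b))
  refine commute_congr hc rfl he ?_
  have : Lift σ p (⊤ : Subgroup G) ≤ Subgroup.centralizer {a} := by
    rw [Lift, Subgroup.closure_le]
    rintro y ⟨-, k, hk⟩
    rw [SetLike.mem_coe, Subgroup.mem_centralizer_singleton_iff]
    have h1 := lift_unique hs hc hK hp (x := a * y * a⁻¹) (y := y)
      (by rw [map_mul, map_mul, map_inv, (ha (σ y)).eq, mul_inv_cancel_right])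
      ⟨k, by rw [conj_pow, hk, mul_one, mul_inv_cancel]⟩ ⟨k, hk⟩
    exact (mul_inv_eq_iff_eq_mul.mp h1).symm
  exact (Subgroup.mem_centralizer_singleton_iff.mp (this hb')).symm

end Lift

/-- Reduction to a subgroup of index prime to `ℓ`. -/
theorem van_of_subgroup {ℓ : ℕ} {G : Type u} [Group G] {M : Subgroup G} (hM : M.index.Coprime ℓ)
    (h : ∀ (Γ : Type u) [Group Γ] [Finite Γ] (σ : Γ →* G), Function.Surjective σ → σ.ker ≤ Subgroup.center Γ →
      IsPGroup ℓ σ.ker → ∀ z : Γ, σ z = 1 → z ∈ ⁅M.comap σ, M.comap σ⁆ → z = 1) : Van ℓ G := by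
  intro Γ _ _ σ hs hc hK z hz hzc
  have h1 := pow_relIndex_mem (P := M.comap σ) (H := ⊤) le_top (hc hz)
    (show σ z ∈ M by rw [hz]; exact one_mem M) (by rw [← commutator_def]; exact hzc)
  rw [Subgroup.relIndex_top_right, Subgroup.index_comap_of_surjective M hs] at h1
  have h2 := h Γ σ hs hc hK _ (by rw [map_pow, hz, one_pow]) h1
  obtain ⟨k, hk⟩ := hK ⟨z, hz⟩
  exact eq_one_of_coprime (hM.pow_right k) h2 (congrArg Subtype.val hk)

/-- A cyclic subgroup of index prime to `ℓ`. -/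
theorem van_of_cyclic {ℓ : ℕ} {G : Type u} [Group G] {M : Subgroup G} (hM : M.index.Coprime ℓ) [IsCyclic M] :
    Van ℓ G :=
  van_of_subgroup hM fun Γ _ _ σ hs hc hK z hz hzM => by
    have hker : (σ.subgroupComap M).ker = σ.ker.subgroupOf (M.comap σ) := Subgroup.ext fun x => by
      rw [MonoidHom.mem_ker, Subgroup.mem_subgroupOf, MonoidHom.mem_ker]; exact Subtype.ext_iff
    rw [← Subgroup.map_subtype_commutator] at hzM
    obtain ⟨w, hw, rfl⟩ := hzM
    have := Van.of_comm (ℓ := ℓ) (G := M) (M.comap σ) (σ.subgroupComap M)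
      (fun h => by obtain ⟨x, hx⟩ := hs h.1; exact ⟨⟨x, by show σ x ∈ M; rw [hx]; exact h.2⟩, Subtype.ext hx⟩)
      (by
        rw [hker]
        intro x hx
        exact Subgroup.mem_center_iff.mpr fun y => Subtype.ext (Subgroup.mem_center_iff.mp (hc hx) y.1))
      (fun x => by
        obtain ⟨i, hi⟩ := hK ⟨x.1.1, Subgroup.mem_subgroupOf.mp (hker ▸ x.2)⟩
        exact ⟨i, Subtype.ext (Subtype.ext (show x.1.1 ^ ℓ ^ i = 1 from congrArg Subtype.val hi))⟩)
      w (Subtype.ext hz) hw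
    rw [this]; rfl

/-- A product of two groups generated by `p`-elements. -/
theorem van_prod {ℓ p : ℕ} (hp : p.Coprime ℓ) {G₁ G₂ : Type u} [Group G₁] [Group G₂]
    (g₁ : PGen p (⊤ : Subgroup G₁)) (g₂ : PGen p (⊤ : Subgroup G₂)) (h₁ : Van ℓ G₁) (h₂ : Van ℓ G₂) :
    Van ℓ (G₁ × G₂) := by
  intro Γ _ _ σ hs hc hK z hz hzc
  set H₁ := (⊤ : Subgroup G₁).map (MonoidHom.inl G₁ G₂) with hH₁
  set H₂ := (⊤ : Subgroup G₂).map (MonoidHom.inr G₁ G₂) with hH₂
  have v₁ : Van ℓ H₁ := h₁.of_equiv (Subgroup.topEquiv.symm.trans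
    (Subgroup.equivMapOfInjective _ _ fun a b e => congrArg Prod.fst e))
  have v₂ : Van ℓ H₂ := h₂.of_equiv (Subgroup.topEquiv.symm.trans
    (Subgroup.equivMapOfInjective _ _ fun a b e => congrArg Prod.snd e))
  have hcm : ∀ a ∈ H₁, ∀ b ∈ H₂, Commute a b := by
    rintro _ ⟨a, -, rfl⟩ _ ⟨b, -, rfl⟩
    exact MonoidHom.commute_inl_inr a b
  let X : Subgroup Γ :=
    { carrier := {x | ∃ a ∈ Lift σ p H₁, ∃ b ∈ Lift σ p H₂, x = a * b}
      one_mem' := ⟨1, one_mem _, 1, one_mem _, (mul_one 1).symm⟩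
      mul_mem' := by
        rintro _ _ ⟨a, ha, b, hb, rfl⟩ ⟨a', ha', b', hb', rfl⟩
        refine ⟨a * a', mul_mem ha ha', b * b', mul_mem hb hb', ?_⟩
        rw [mul_assoc a, ← mul_assoc b, ← (Lift_commute hs hc hK hp hcm ha' hb).eq]; group
      inv_mem' := by
        rintro _ ⟨a, ha, b, hb, rfl⟩
        refine ⟨a⁻¹, inv_mem ha, b⁻¹, inv_mem hb, ?_⟩
        rw [(Lift_commute hs hc hK hp hcm ha hb).eq, _root_.mul_inv_rev] }
  have hle : commutator Γ ≤ X := by
    rw [commutator_def, Subgroup.commutator_le]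
    have hX : ∀ g : Γ, ∃ x ∈ X, σ x = σ g := fun g => by
      obtain ⟨a, ha, hσa⟩ := Lift_surj hs hc hK hp (g₁.map (MonoidHom.inl G₁ G₂))
        (show MonoidHom.inl G₁ G₂ (σ g).1 ∈ H₁ from ⟨_, trivial, rfl⟩)
      obtain ⟨b, hb, hσb⟩ := Lift_surj hs hc hK hp (g₂.map (MonoidHom.inr G₁ G₂))
        (show MonoidHom.inr G₁ G₂ (σ g).2 ∈ H₂ from ⟨_, trivial, rfl⟩)
      exact ⟨a * b, ⟨a, ha, b, hb, rfl⟩, by rw [map_mul, hσa, hσb]; simp⟩
    intro a _ b _
    obtain ⟨a', ha', hea⟩ := hX a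
    obtain ⟨b', hb', heb⟩ := hX b
    rw [StSL.comm_congr hc hea.symm heb.symm]
    exact mul_mem (mul_mem (mul_mem ha' hb') (inv_mem ha')) (inv_mem hb')
  obtain ⟨a, ha, b, hb, rfl⟩ := hle hzc
  obtain ⟨x, -, hx⟩ := Lift_map ha
  obtain ⟨y, -, hy⟩ := Lift_map hb
  rw [map_mul, ← hx, ← hy] at hz
  have h1 : x = 1 := by simpa using congrArg Prod.fst hz
  have h2 : y = 1 := by simpa using congrArg Prod.snd hz
  rw [Lift_inter hs hc hK hp v₁ ha (by rw [← hx, h1, map_one]),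
    Lift_inter hs hc hK hp v₂ hb (by rw [← hy, h2, map_one]), one_mul]

theorem PGen.top_prod {p : ℕ} {G₁ G₂ : Type u} [Group G₁] [Group G₂] (g₁ : PGen p (⊤ : Subgroup G₁))
    (g₂ : PGen p (⊤ : Subgroup G₂)) : PGen p (⊤ : Subgroup (G₁ × G₂)) := by
  have h : ((⊤ : Subgroup G₁).map (MonoidHom.inl G₁ G₂)) ⊔ ((⊤ : Subgroup G₂).map (MonoidHom.inr G₁ G₂)) = ⊤ := by
    rw [eq_top_iff]
    rintro ⟨a, b⟩ -
    rw [show (a, b) = MonoidHom.inl G₁ G₂ a * MonoidHom.inr G₁ G₂ b by simp]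
    exact mul_mem (Subgroup.mem_sup_left ⟨a, trivial, rfl⟩) (Subgroup.mem_sup_right ⟨b, trivial, rfl⟩)
  rw [← h]
  exact (g₁.map _).sup (g₂.map _)

/-- A finite power of a group generated by `p`-elements. -/
theorem van_pi {ℓ p : ℕ} (hp : p.Coprime ℓ) {G : Type u} [Group G] (g : PGen p (⊤ : Subgroup G))
    (h : Van ℓ G) : ∀ n : ℕ, Van ℓ (Fin n → G) ∧ PGen p (⊤ : Subgroup (Fin n → G)) := by
  intro n
  induction n with
  | zero =>
    haveI : IsCyclic (Fin 0 → G) := isCyclic_of_subsingleton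
    refine ⟨Van.of_comm, fun x _ => ?_⟩
    rw [Subsingleton.elim x 1]; exact one_mem _
  | succ n ih =>
    let e : G × (Fin n → G) ≃* (Fin (n + 1) → G) :=
      { Fin.consEquiv (fun _ => G) with
        map_mul' := fun a b => funext fun i => by
          refine Fin.cases ?_ (fun i => ?_) i <;> simp [Fin.consEquiv] }
    refine ⟨(van_prod hp g ih.2 h ih.1).of_equiv e, ?_⟩
    have := (PGen.top_prod g ih.2).map e.toMonoidHom
    rwa [Subgroup.map_top_of_surjective _ e.surjective] at this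

end CfsgLib.StemEll
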