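import Cfsg.Agent.Lib.StemEll.Lift
import Cfsg.Prelude.Def_KGroupFacts

/-!
Stem extensions of a group with vanishing at every prime are trivial.
-/

set_option autoImplicit false
set_option linter.unusedSectionVars false

namespace CfsgLib.StemEll

universe u

theorem stem_trivial_of_van {G : Type u} [Group G] (h : ∀ ℓ : ℕ, ℓ.Prime → Van ℓ G) {Γ : Type u} [Group Γ]
    [Finite Γ] (σ : Γ →* G) (hσ : Cfsg.IsStemExtension σ) : σ.ker = ⊥ := by
  by_contra hne
  have hK : Nat.card σ.ker ≠ 1 := fun h1 => hne (Subgroup.eq_bot_of_card_eq _ h1)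
  obtain ⟨ℓ, hℓ, hdvd⟩ := Nat.exists_prime_and_dvd hK
  haveI := Fact.mk hℓ
  set c := ordCompl[ℓ] (Nat.card σ.ker) with hcdef
  have hcℓ : c.Coprime ℓ := (Nat.coprime_ordCompl hℓ Nat.card_pos.ne').symm
  have hcentre : ∀ z, σ z = 1 → ∀ g, Commute g z := fun z hz g => SpCover.ker_comm hσ.2.1 hz g
  let N : Subgroup Γ :=
    { carrier := {z | σ z = 1 ∧ z ^ c = 1}
      one_mem' := ⟨map_one σ, one_pow c⟩
      mul_mem' := fun {a b} ⟨ha, ha'⟩ ⟨hb, hb'⟩ =>
        ⟨by rw [map_mul, ha, hb, one_mul], by rw [(hcentre b hb a).mul_pow, ha', hb', one_mul]⟩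
      inv_mem' := fun {a} ⟨ha, ha'⟩ => ⟨by rw [map_inv, ha, inv_one], by rw [inv_pow, ha', inv_one]⟩ }
  haveI : N.Normal := ⟨fun n hn g => by rwa [(hcentre n hn.1 g).eq, mul_inv_cancel_right]⟩
  let σ' : Γ ⧸ N →* G := QuotientGroup.lift N σ fun z hz => hz.1
  have hσ' : Function.Surjective σ' := fun g => by
    obtain ⟨y, rfl⟩ := hσ.1 g
    exact ⟨QuotientGroup.mk y, rfl⟩
  have hc' : σ'.ker ≤ Subgroup.center (Γ ⧸ N) := fun x hx => by
    obtain ⟨y, rfl⟩ := QuotientGroup.mk'_surjective N x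
    rw [Subgroup.mem_center_iff]
    intro w
    obtain ⟨v, rfl⟩ := QuotientGroup.mk'_surjective N w
    rw [← map_mul, ← map_mul, (hcentre y hx v).eq]
  have hK' : IsPGroup ℓ σ'.ker := fun x => by
    obtain ⟨y, hy⟩ := QuotientGroup.mk'_surjective N x.1
    refine ⟨(Nat.card σ.ker).factorization ℓ, Subtype.ext ?_⟩
    have hyk : σ y = 1 := by
      have := MonoidHom.mem_ker.mp x.2
      rwa [← hy] at this
    show x.1 ^ _ = 1
    rw [← hy, ← map_pow]
    refine (QuotientGroup.eq_one_iff _).mpr ⟨by rw [map_pow, hyk, one_pow], ?_⟩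
    rw [← pow_mul, hcdef, Nat.ordProj_mul_ordCompl_eq_self]
    exact congrArg Subtype.val (pow_card_eq_one' (x := (⟨y, hyk⟩ : σ.ker)))
  obtain ⟨z, hz⟩ := exists_prime_orderOf_dvd_card' ℓ hdvd
  have hzc : (QuotientGroup.mk z.1 : Γ ⧸ N) ∈ commutator (Γ ⧸ N) := by
    have h1 := Subgroup.mem_map_of_mem (QuotientGroup.mk' N) (hσ.2.2 z.2)
    rw [commutator_def, Subgroup.map_commutator] at h1
    exact Subgroup.commutator_mono le_top le_top h1
  have h2 := h ℓ hℓ (Γ ⧸ N) σ' hσ' hc' hK' (QuotientGroup.mk z.1) (show σ z.1 = 1 from z.2) hzc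
  rw [QuotientGroup.eq_one_iff] at h2
  have h3 : orderOf z ∣ c := orderOf_dvd_of_pow_eq_one (Subtype.ext h2.2)
  rw [hz] at h3
  exact hℓ.coprime_iff_not_dvd.mp hcℓ.symm h3

end CfsgLib.StemEll
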